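import Groth.Agent.NagataOne.Dim
import Groth.Prelude.Def_CAlg2

/-!
# `δ = 0` and the bound on geometric branches
-/

set_option autoImplicit false

universe u

namespace Groth.Agent.NagataOne

attribute [local instance] finite_min

variable (A : Type u) [CommRing A] [IsLocalRing A]

theorem isDomain_isDVR_of_deltaInv_eq_zero [IsReduced A] [IsNoetherianRing A]
    (hdim : ringKrullDim A = 1) (h : Curv2.deltaInv A = 0) :
    ∃ _ : IsDomain A, IsDiscreteValuationRing A := by
  classical
  have := Fintype.ofFinite (Min A)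
  have hsub := Module.length_eq_zero_iff.mp h
  have hsurj : Function.Surjective (algebraMap A (integralClosure A (FractionRing A))) := fun z => by
    have h0 : (Submodule.Quotient.mk z : ↥(integralClosure A (FractionRing A)) ⧸
      LinearMap.range (Algebra.linearMap A ↥(integralClosure A (FractionRing A)))) = 0 := Subsingleton.elim _ _
    exact (Submodule.Quotient.mk_eq_zero _).mp h0
  have hinj : Function.Injective (algebraMap A (integralClosure A (FractionRing A))) := fun a b hab =>
    IsFractionRing.injective A (FractionRing A) (congrArg Subtype.val hab)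
  let e := AlgEquiv.ofBijective _ (closureToPi_bijective A)
  -- a single minimal prime
  have hsub' : ∀ p q : Min A, p = q := by
    intro p q
    by_contra hpq
    obtain ⟨x, hx⟩ := hsurj (e.symm (Pi.single p 1))
    have hidem : IsIdempotentElem x := by
      apply hinj
      rw [map_mul, hx, ← map_mul, ← Pi.single_mul, one_mul]
    have h01 : x = 0 ∨ x = 1 := by
      rcases IsLocalRing.isUnit_or_isUnit_one_sub_self x with hu | hu
      · right; exact hu.mul_left_cancel (by rw [mul_one]; exact hidem)
      · left; exact (hu.mul_right_eq_zero).mp (by rw [sub_mul, one_mul, hidem, sub_self])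
    rcases h01 with h0 | h0
    · rw [h0, map_zero] at hx
      have h2 := congrArg (fun z => e z p) hx
      simp at h2
    · rw [h0, map_one] at hx
      have h2 := congrArg (fun z => e z q) hx
      simp [Pi.single_eq_of_ne (Ne.symm hpq)] at h2
  have hdom : IsDomain A := by
    obtain ⟨p₀, hp₀⟩ := Ideal.exists_minimalPrimes_le (bot_le : (⊥ : Ideal A) ≤ IsLocalRing.maximalIdeal A)
    have hp : p₀ = ⊥ := le_bot_iff.mp fun x hx => (Submodule.mem_bot A).mpr (eq_zero_of_forall_mem A fun q => by
      rw [hsub' q ⟨p₀, hp₀.1⟩]; exact hx)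
    have : (⊥ : Ideal A).IsPrime := hp ▸ hp₀.1.1.1
    exact IsDomain.of_bot_isPrime A
  have : Ring.KrullDimLE 1 A := Ring.krullDimLE_iff.mpr hdim.le
  have hic : IsIntegrallyClosed A := by
    refine (isIntegrallyClosed_iff (FractionRing A)).mpr fun {x} hx => ?_
    obtain ⟨y, hy⟩ := hsurj ⟨x, hx⟩
    exact ⟨y, congrArg Subtype.val hy⟩
  have hnf : ¬ IsField A := fun hF => by
    rw [ringKrullDim_eq_zero_of_isField hF] at hdim
    exact zero_ne_one hdim
  have : IsDedekindDomain A :=
    (isDedekindDomain_iff A (FractionRing A)).mpr ⟨hdom, inferInstance,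
      ⟨fun {p} hp hpp => hpp.isMaximal_of_ne_bot hp⟩, (isIntegrallyClosed_iff _).mp hic⟩
  exact ⟨hdom, ((IsDiscreteValuationRing.TFAE A hnf).out 0 2).mpr this⟩

theorem deltaInv_eq_zero_of_isDVR [IsDomain A] [IsDiscreteValuationRing A] : Curv2.deltaInv A = 0 := by
  refine Module.length_eq_zero_iff.mpr (Submodule.Quotient.subsingleton_iff.mpr (eq_top_iff.mpr fun z _ => ?_))
  obtain ⟨y, hy⟩ := (isIntegrallyClosed_iff (FractionRing A)).mp inferInstance z.2
  exact ⟨y, Subtype.ext hy⟩

section Bound

variable (S : Type u) [CommRing S] [Algebra A S]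

/-- the residue fields of finitely many maximal ideals over `𝔪` cost at most `length (S / A) + 1` -/
theorem sum_length_le [Algebra.IsIntegral A S] (F : Finset (MaximalSpectrum S)) :
    ∑ m ∈ F, Module.length A (S ⧸ m.asIdeal) ≤
      Module.length A (S ⧸ LinearMap.range (Algebra.linearMap A S)) + 1 := by
  classical
  rcases F.eq_empty_or_nonempty with rfl | hne
  · simp
  let φ : S →ₐ[A] ∀ m : F, S ⧸ m.1.asIdeal := AlgHom.pi fun m => Ideal.Quotient.mkₐ A m.1.asIdeal
  have hφ : Function.Surjective φ := by
    have hpair : Pairwise fun i j : F => IsCoprime i.1.asIdeal j.1.asIdeal := fun i j hij =>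
      Ideal.isCoprime_iff_sup_eq.mpr (i.1.isMaximal.coprime_of_ne j.1.isMaximal
        fun h => hij (Subtype.ext (MaximalSpectrum.ext h)))
    exact fun z => (Ideal.pi_quotient_surjective hpair z).imp fun r hr => funext hr
  -- `A → ∏ S/m` has image isomorphic to `κ`
  let ψ : A →ₗ[A] ∀ m : F, S ⧸ m.1.asIdeal := φ.toLinearMap.comp (Algebra.linearMap A S)
  have hker : IsLocalRing.maximalIdeal A ≤ LinearMap.ker ψ := fun x hx => funext fun m => by
    have hmax : (m.1.asIdeal.comap (algebraMap A S)).IsMaximal := by
      have := m.1.isMaximal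
      exact Ideal.isMaximal_comap_of_isIntegral_of_isMaximal m.1.asIdeal
    rw [← IsLocalRing.eq_maximalIdeal hmax] at hx
    exact Ideal.Quotient.eq_zero_iff_mem.mpr hx
  have hrange : Module.length A (LinearMap.range ψ) ≤ 1 := by
    have : Function.Surjective (Submodule.liftQ (IsLocalRing.maximalIdeal A) ψ.rangeRestrict
        (by rw [LinearMap.ker_rangeRestrict]; exact hker)) := fun z => by
      obtain ⟨_, x, rfl⟩ := z
      exact ⟨Submodule.Quotient.mk x, rfl⟩
    refine (Module.length_le_of_surjective _ this).trans ?_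
    have : IsSimpleModule A (A ⧸ IsLocalRing.maximalIdeal A) :=
      isSimpleModule_iff_isCoatom.mpr (IsLocalRing.maximalIdeal.isMaximal A).out
    rw [Module.length_eq_one]
  have hquot : Module.length A ((∀ m : F, S ⧸ m.1.asIdeal) ⧸ LinearMap.range ψ) ≤
      Module.length A (S ⧸ LinearMap.range (Algebra.linearMap A S)) := by
    refine Module.length_le_of_surjective (Submodule.mapQ _ _ φ.toLinearMap ?_) fun z => ?_
    · rintro _ ⟨a, rfl⟩
      exact ⟨a, rfl⟩
    · obtain ⟨z, rfl⟩ := Submodule.mkQ_surjective _ z
      obtain ⟨s, rfl⟩ := hφ z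
      exact ⟨Submodule.Quotient.mk s, rfl⟩
  have h1 := Module.length_eq_add_of_exact (LinearMap.range ψ).subtype (LinearMap.range ψ).mkQ
    (Submodule.subtype_injective _) (Submodule.mkQ_surjective _) (LinearMap.exact_subtype_mkQ _)
  rw [Module.length_pi_of_fintype] at h1
  rw [← Finset.sum_coe_sort, h1, add_comm]
  exact add_le_add hquot hrange

/-- the embeddings of `S/m` into `κ̄` number at most `length (S/m)` -/
theorem card_emb_le [Module.Finite A S] [Algebra.IsIntegral A S] (m : MaximalSpectrum S) :
    ENat.card {σ : S ⧸ m.asIdeal →+* AlgebraicClosure (IsLocalRing.ResidueField A) //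
      σ.comp ((Ideal.Quotient.mk m.asIdeal).comp (algebraMap A S)) = Brnch.toClosure A} ≤
      Module.length A (S ⧸ m.asIdeal) := by
  have := m.isMaximal
  let : Field (S ⧸ m.asIdeal) := Ideal.Quotient.field m.asIdeal
  have hmax := IsLocalRing.eq_maximalIdeal (Ideal.isMaximal_comap_of_isIntegral_of_isMaximal (R := A) m.asIdeal)
  let j : IsLocalRing.ResidueField A →+* S ⧸ m.asIdeal := Ideal.Quotient.lift (IsLocalRing.maximalIdeal A)
    ((Ideal.Quotient.mk m.asIdeal).comp (algebraMap A S))
    fun a ha => Ideal.Quotient.eq_zero_iff_mem.mpr (by rw [← hmax] at ha; exact ha)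
  let := j.toAlgebra
  have : IsScalarTower A (IsLocalRing.ResidueField A) (S ⧸ m.asIdeal) := IsScalarTower.of_algebraMap_eq fun a => rfl
  have : Module.Finite A (S ⧸ m.asIdeal) :=
    Module.Finite.of_surjective (Ideal.Quotient.mkₐ A m.asIdeal).toLinearMap Ideal.Quotient.mk_surjective
  have : Module.Finite (IsLocalRing.ResidueField A) (S ⧸ m.asIdeal) :=
    Module.Finite.of_restrictScalars_finite A (IsLocalRing.ResidueField A) (S ⧸ m.asIdeal)
  let κ := IsLocalRing.ResidueField A
  let toHom : {σ : S ⧸ m.asIdeal →+* AlgebraicClosure κ //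
      σ.comp ((Ideal.Quotient.mk m.asIdeal).comp (algebraMap A S)) = Brnch.toClosure A} →
      (S ⧸ m.asIdeal →ₐ[κ] AlgebraicClosure κ) := fun σ =>
    { toRingHom := σ.1
      commutes' := fun c => by
        obtain ⟨a, rfl⟩ := IsLocalRing.residue_surjective c
        exact DFunLike.congr_fun σ.2 a }
  have hinj : Function.Injective toHom := fun a b h =>
    Subtype.ext (RingHom.ext fun x => DFunLike.congr_fun h x)
  have hfin : Finite (S ⧸ m.asIdeal →ₐ[κ] AlgebraicClosure κ) := inferInstance
  refine (ENat.card_le_card_of_injective hinj).trans ?_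
  rw [ENat.card_eq_coe_natCard,
    Module.length_eq_of_surjective (R := κ) (S := A) IsLocalRing.residue_surjective, Module.length_eq_finrank]
  exact_mod_cast card_algHom_le_finrank κ (S ⧸ m.asIdeal) (AlgebraicClosure κ)

theorem card_sigma_le [Module.Finite A S] [Algebra.IsIntegral A S]
    (hlt : Module.length A (S ⧸ LinearMap.range (Algebra.linearMap A S)) < ⊤) :
    ENat.card (Σ m : MaximalSpectrum S,
      {σ : S ⧸ m.asIdeal →+* AlgebraicClosure (IsLocalRing.ResidueField A) //
        σ.comp ((Ideal.Quotient.mk m.asIdeal).comp (algebraMap A S)) = Brnch.toClosure A}) ≤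
      Module.length A (S ⧸ LinearMap.range (Algebra.linearMap A S)) + 1 := by
  classical
  obtain ⟨N, hN⟩ := ENat.ne_top_iff_exists.mp hlt.ne
  have hcard : ∀ F : Finset (MaximalSpectrum S), F.card ≤ N + 1 := fun F => by
    have hle : ∑ m ∈ F, (1 : ℕ∞) ≤ ∑ m ∈ F, Module.length A (S ⧸ m.asIdeal) :=
      Finset.sum_le_sum fun m _ => by
        have : Nontrivial (S ⧸ m.asIdeal) := Ideal.Quotient.nontrivial_iff.mpr m.isMaximal.ne_top
        exact Order.one_le_iff_pos.mpr (Module.length_pos)
    have h := hle.trans (sum_length_le A S F)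
    rw [Finset.sum_const, ← hN, nsmul_eq_mul, mul_one] at h
    exact_mod_cast h
  have : Finite (MaximalSpectrum S) := by
    by_contra h
    rw [not_finite_iff_infinite] at h
    obtain ⟨F, hF⟩ := Infinite.exists_subset_card_eq (MaximalSpectrum S) (N + 2)
    have := hcard F
    omega
  have := Fintype.ofFinite (MaximalSpectrum S)
  let T : MaximalSpectrum S → Type u := fun m =>
    {σ : S ⧸ m.asIdeal →+* AlgebraicClosure (IsLocalRing.ResidueField A) //
      σ.comp ((Ideal.Quotient.mk m.asIdeal).comp (algebraMap A S)) = Brnch.toClosure A}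
  have hT : ∀ m, Finite (T m) := fun m => by
    by_contra h
    rw [not_finite_iff_infinite] at h
    have h1 := (card_emb_le A S m).trans ((Finset.single_le_sum (f := fun m => Module.length A (S ⧸ m.asIdeal))
      (fun _ _ => zero_le) (Finset.mem_univ m)).trans (sum_length_le A S Finset.univ))
    rw [ENat.card_eq_top_of_infinite, top_le_iff, ← hN] at h1
    exact ENat.natCast_ne_top (N + 1) (by push_cast; exact h1)
  show ENat.card (Σ m, T m) ≤ _
  rw [ENat.card_eq_coe_natCard, Nat.card_sigma, Nat.cast_sum]
  exact (Finset.sum_le_sum fun m _ => (ENat.card_eq_coe_natCard (T m)).symm.trans_le (card_emb_le A S m)).trans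
    (sum_length_le A S Finset.univ)

end Bound

theorem numGeomBranches_le [IsReduced A] [IsNoetherianRing A] (hN : CAlg.IsNagata A)
    (hdim : ringKrullDim A ≤ 1) : Brnch.numGeomBranches A ≤ Curv2.deltaInv A + 1 := by
  classical
  have hnil : nilradical A = ⊥ := nilradical_eq_bot_iff.mpr inferInstance
  let e : A ≃+* CAlg2.red A :=
    ((RingEquiv.quotientBot A).symm).trans (Ideal.quotEquivOfEq hnil.symm)
  have he : ∀ a, e a = Ideal.Quotient.mk (nilradical A) a := fun a => rfl
  let E : FractionRing A ≃+* FractionRing (CAlg2.red A) := IsFractionRing.ringEquivOfRingEquiv e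
  have hE : ∀ a, E (algebraMap A _ a) = algebraMap (CAlg2.red A) _ (e a) :=
    fun a => IsFractionRing.ringEquivOfRingEquiv_algebraMap e a
  have hmem : ∀ x, IsIntegral (CAlg2.red A) (E x) ↔ IsIntegral A x := fun x => by
    refine ⟨fun h => ?_, fun h => ?_⟩
    · have := h.map_of_comp_eq e.symm.toRingHom E.symm.toRingHom (RingHom.ext fun r => by
        obtain ⟨a, rfl⟩ := e.surjective r
        show algebraMap A _ (e.symm (e a)) = E.symm (algebraMap _ _ (e a))
        rw [← hE, RingEquiv.symm_apply_apply, RingEquiv.symm_apply_apply])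
      simpa using this
    · exact h.map_of_comp_eq e.toRingHom E.toRingHom (RingHom.ext fun a => (hE a).symm)
  let : Algebra A (CAlg2.normRed A) :=
    ((algebraMap (CAlg2.red A) (CAlg2.normRed A)).comp (Ideal.Quotient.mk (nilradical A))).toAlgebra
  let Ψ : integralClosure A (FractionRing A) ≃ₐ[A] CAlg2.normRed A :=
    { toFun := fun z => ⟨E z, (hmem _).mpr z.2⟩
      invFun := fun z => ⟨E.symm z, (hmem _).mp (by rw [RingEquiv.apply_symm_apply]; exact z.2)⟩
      left_inv := fun z => Subtype.ext (E.symm_apply_apply _)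
      right_inv := fun z => Subtype.ext (E.apply_symm_apply _)
      map_mul' := fun a b => Subtype.ext (map_mul E _ _)
      map_add' := fun a b => Subtype.ext (map_add E _ _)
      commutes' := fun a => Subtype.ext (hE a) }
  have := finite_integralClosure A hN
  have : Module.Finite A (CAlg2.normRed A) := Module.Finite.equiv Ψ.toLinearEquiv
  have : Algebra.IsIntegral A (CAlg2.normRed A) := inferInstance
  have hδ : Module.length A (CAlg2.normRed A ⧸ LinearMap.range (Algebra.linearMap A (CAlg2.normRed A))) =
      Curv2.deltaInv A := by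
    refine (Submodule.Quotient.equiv _ _ Ψ.toLinearEquiv ?_).length_eq.symm
    rw [← LinearMap.range_comp]
    congr 1
    exact LinearMap.ext fun a => Ψ.commutes a
  have hlt := deltaInv_lt_top A hN hdim
  rw [Brnch.numGeomBranches, if_pos (minimalPrimes.finite_of_isNoetherianRing A), ← hδ]
  exact card_sigma_le A (CAlg2.normRed A) (hδ.symm ▸ hlt)

end Groth.Agent.NagataOne
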