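import Groth.Agent.NagataOne.Pi
import Groth.Agent.GlueSL.DimOne
import Groth.Prelude.Def_Curv2
import Groth.Prelude.Def_Found
import Groth.Prelude.Def_Brnch

/-!
# Reduced local Nagata rings of dimension one: finiteness, `δ`, and branches
-/

set_option autoImplicit false

universe u

namespace Groth.Agent.NagataOne

variable (A : Type u) [CommRing A]

section Finite

variable [IsReduced A] [IsNoetherianRing A]

theorem finite_min : Finite (Min A) := (minimalPrimes.finite_of_isNoetherianRing A).to_subtype

attribute [local instance] finite_min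

theorem finite_closure_Kp (hN : CAlg.IsNagata A) (p : Min A) : Module.Finite A (integralClosure A (Kp A p)) := by
  have h : Module.Finite (A ⧸ p.1) (integralClosure (A ⧸ p.1) (Kp A p)) :=
    hN.2 p.1 (Kp A p) (inferInstance : FiniteDimensional (Kp A p) (Kp A p))
  have : Module.Finite A (A ⧸ p.1) := Module.Finite.of_surjective (Algebra.linearMap A (A ⧸ p.1)) Ideal.Quotient.mk_surjective
  have : Module.Finite A (integralClosure (A ⧸ p.1) (Kp A p)) := Module.Finite.trans (A ⧸ p.1) _
  let e : integralClosure (A ⧸ p.1) (Kp A p) ≃ₗ[A] integralClosure A (Kp A p) :=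
    { toFun := fun z => ⟨z, (mem_closure_Kp_iff A _).mpr z.2⟩
      invFun := fun z => ⟨z, (mem_closure_Kp_iff A _).mp z.2⟩
      map_add' := fun _ _ => rfl
      map_smul' := fun _ _ => rfl }
  exact Module.Finite.equiv e

theorem finite_integralClosure (hN : CAlg.IsNagata A) :
    Module.Finite A (integralClosure A (FractionRing A)) := by
  have := finite_closure_Kp A hN
  exact Module.Finite.equiv (AlgEquiv.ofBijective _ (closureToPi_bijective A)).symm.toLinearEquiv

theorem isNormal_localization (p : PrimeSpectrum (integralClosure A (FractionRing A))) :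
    IsDomain (Localization.AtPrime p.asIdeal) ∧ IsIntegrallyClosed (Localization.AtPrime p.asIdeal) := by
  classical
  have := Fintype.ofFinite (Min A)
  let e := AlgEquiv.ofBijective _ (closureToPi_bijective A)
  obtain ⟨j, hj⟩ : ∃ j : Min A, e.symm (Pi.single j 1) ∉ p.asIdeal := by
    by_contra h
    push Not at h
    refine p.isPrime.ne_top ((Ideal.eq_top_iff_one _).mpr ?_)
    have : (1 : integralClosure A (FractionRing A)) = ∑ j, e.symm (Pi.single j 1) := by
      rw [← map_sum, Finset.univ_sum_single (fun _ => (1 : integralClosure A (Kp A _))), ← Pi.one_def, map_one]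
    rw [this]
    exact Ideal.sum_mem _ fun j _ => h j
  let B := integralClosure A (Kp A j)
  let π : integralClosure A (FractionRing A) →+* B := (Pi.evalRingHom _ j).comp e.toRingHom
  have hπ : ∀ z, π z = e z j := fun z => rfl
  have hπs : Function.Surjective π := fun b => ⟨e.symm (Pi.single j b), by
    rw [hπ, AlgEquiv.apply_symm_apply, Pi.single_eq_same]⟩
  have hker : ∀ z, π z = 0 → z * e.symm (Pi.single j 1) = 0 := fun z hz => by
    apply e.injective
    rw [map_mul, map_zero, AlgEquiv.apply_symm_apply]
    funext i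
    by_cases hi : i = j
    · subst hi
      rw [Pi.mul_apply, ← hπ, hz, zero_mul]
      rfl
    · simp [Pi.single_eq_of_ne hi]
  let q : Ideal B := p.asIdeal.map π
  have hkerp : RingHom.ker π ≤ p.asIdeal := fun z hz =>
    (p.isPrime.mem_or_mem (hker z hz ▸ p.asIdeal.zero_mem)).resolve_right hj
  have hq : q.IsPrime := Ideal.map_isPrime_of_surjective hπs hkerp
  have hcomap : q.comap π = p.asIdeal := by
    rw [Ideal.comap_map_of_surjective π hπs, sup_eq_left]
    exact hkerp
  have := isIntegrallyClosed_closure A j
  have hint : IsIntegrallyClosed (Localization.AtPrime q) :=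
    isIntegrallyClosed_of_isLocalization (Localization.AtPrime q) q.primeCompl
      (Ideal.primeCompl_le_nonZeroDivisors q)
  let := ((algebraMap B (Localization.AtPrime q)).comp π).toAlgebra
  have hmem : ∀ z, π z ∈ q ↔ z ∈ p.asIdeal := fun z => by rw [← Ideal.mem_comap, hcomap]
  have : IsLocalization p.asIdeal.primeCompl (Localization.AtPrime q) := by
    refine ⟨fun y => IsLocalization.map_units (Localization.AtPrime q)
      (⟨π y, fun h => y.2 ((hmem _).mp h)⟩ : q.primeCompl), fun w => ?_, fun {a b} h => ?_⟩
    · obtain ⟨⟨x, s⟩, h⟩ := IsLocalization.surj q.primeCompl w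
      obtain ⟨x', rfl⟩ := hπs x
      obtain ⟨s', hs'⟩ := hπs (s : B)
      refine ⟨⟨x', ⟨s', fun hmem' => s.2 (hs' ▸ (hmem _).mpr hmem')⟩⟩, ?_⟩
      show w * algebraMap B _ (π s') = algebraMap B _ (π x')
      rw [hs']
      exact h
    · obtain ⟨⟨c, hc⟩, hcab⟩ := (IsLocalization.eq_iff_exists q.primeCompl (Localization.AtPrime q)).mp h
      obtain ⟨c', rfl⟩ := hπs c
      have h0 : π (c' * a - c' * b) = 0 := by rw [map_sub, map_mul, map_mul]; exact sub_eq_zero.mpr hcab
      have h1 := hker _ h0
      refine ⟨⟨c' * e.symm (Pi.single j 1), fun hm =>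
        (p.isPrime.mem_or_mem hm).elim (fun h => hc ((hmem _).mpr h)) hj⟩, ?_⟩
      rw [sub_mul, sub_eq_zero] at h1
      show c' * e.symm (Pi.single j 1) * a = c' * e.symm (Pi.single j 1) * b
      rw [mul_right_comm, h1, mul_right_comm]
  let E := IsLocalization.algEquiv p.asIdeal.primeCompl (Localization.AtPrime p.asIdeal) (Localization.AtPrime q)
  have hdom : IsDomain (Localization.AtPrime q) :=
    IsLocalization.isDomain_localization (Ideal.primeCompl_le_nonZeroDivisors q)
  exact ⟨E.toMulEquiv.isDomain _, IsIntegrallyClosed.of_equiv (R := Localization.AtPrime q) E.toRingEquiv.symm⟩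

variable [IsLocalRing A]

theorem deltaInv_lt_top (hN : CAlg.IsNagata A) (hdim : ringKrullDim A ≤ 1) : Curv2.deltaInv A < ⊤ := by
  have := finite_integralClosure A hN
  let Q := ↥(integralClosure A (FractionRing A)) ⧸
    LinearMap.range (Algebra.linearMap A ↥(integralClosure A (FractionRing A)))
  let J : Ideal A := Module.annihilator A Q
  have hJ : ∀ P ∈ minimalPrimes A, ¬ J ≤ P := by
    intro P hP hle
    obtain ⟨s, hs⟩ := (Module.Finite.fg_top (R := A) (M := integralClosure A (FractionRing A)))
    classical
    obtain ⟨⟨d, hd⟩, hds⟩ := IsLocalization.exist_integer_multiples_of_finset (nonZeroDivisors A)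
      (s.image (Subtype.val : integralClosure A (FractionRing A) → FractionRing A))
    refine (mem_nonZeroDivisors_iff_forall_notMem A).mp hd ⟨P, hP⟩ (hle (Module.mem_annihilator.mpr fun q => ?_))
    obtain ⟨z, rfl⟩ := Submodule.mkQ_surjective _ q
    rw [← map_smul, Submodule.mkQ_apply, Submodule.Quotient.mk_eq_zero]
    have hz : z ∈ Submodule.span A (s : Set (integralClosure A (FractionRing A))) := hs ▸ Submodule.mem_top
    induction hz using Submodule.span_induction with
    | mem w hw =>
      obtain ⟨a, ha⟩ := hds _ (Finset.mem_image_of_mem _ hw)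
      exact ⟨a, Subtype.ext ha⟩
    | zero => rw [smul_zero]; exact zero_mem _
    | add a b _ _ ha hb => rw [smul_add]; exact add_mem ha hb
    | smul r a _ ha => rw [smul_comm]; exact Submodule.smul_mem _ r ha
  obtain ⟨k, hk⟩ := Ideal.exists_pow_le_of_le_radical_of_fg (GlueSL.le_radical_of_forall_minimal hdim J hJ)
    (IsNoetherian.noetherian _)
  have : IsArtinianRing (A ⧸ J) := by
    have : Ring.KrullDimLE 0 (A ⧸ J) := by
      refine Ring.KrullDimLE.mk₀ fun I hI => ?_
      have hI' : (I.comap (Ideal.Quotient.mk J)).IsPrime := Ideal.comap_isPrime _ _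
      have hJI : IsLocalRing.maximalIdeal A ≤ I.comap (Ideal.Quotient.mk J) :=
        (GlueSL.le_radical_of_forall_minimal hdim J hJ).trans
          (hI'.radical_le_iff.mpr fun x hx => by
            rw [Ideal.mem_comap, Ideal.Quotient.eq_zero_iff_mem.mpr hx]; exact zero_mem _)
      have heq := (IsLocalRing.maximalIdeal.isMaximal A).eq_of_le hI'.ne_top hJI
      have hm : (I.comap (Ideal.Quotient.mk J)).IsMaximal := heq ▸ IsLocalRing.maximalIdeal.isMaximal A
      rw [← Ideal.map_comap_of_surjective _ Ideal.Quotient.mk_surjective I]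
      exact hm.map_of_surjective_of_ker_le Ideal.Quotient.mk_surjective fun x hx => by
        rw [Ideal.mem_comap, RingHom.mem_ker.mp hx]; exact zero_mem _
    exact IsNoetherianRing.isArtinianRing_of_krullDimLE_zero
  have htors : Module.IsTorsionBySet A Q (J : Set A) := fun q a => Module.mem_annihilator.mp a.2 q
  let := htors.module
  have : IsScalarTower A (A ⧸ J) Q := htors.isScalarTower
  have : Module.Finite (A ⧸ J) Q := Module.Finite.of_restrictScalars_finite A (A ⧸ J) Q
  have hne : Module.length (A ⧸ J) Q ≠ ⊤ := Module.length_ne_top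
  show Module.length A Q < ⊤
  rw [lt_top_iff_ne_top, Module.length_eq_of_surjective (R := A ⧸ J) (S := A) Ideal.Quotient.mk_surjective]
  exact hne

end Finite

end Groth.Agent.NagataOne
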