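import Mathlib

/-!
# Integral closure of a reduced ring with finitely many minimal primes in its total fraction ring

`Q(A) = ∏ Frac(A/p)` and `A' = ∏ (A/p)'` over the minimal primes `p`.
-/

set_option autoImplicit false

universe u

namespace Groth.Agent.NagataOne

variable (A : Type u) [CommRing A]

abbrev Min : Type u := ↥(minimalPrimes A)

instance (p : Min A) : p.1.IsPrime := p.2.1.1

abbrev Kp (p : Min A) : Type u := FractionRing (A ⧸ p.1)

theorem algebraMap_Kp_eq_zero {p : Min A} {x : A} : algebraMap A (Kp A p) x = 0 ↔ x ∈ p.1 := by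
  rw [IsScalarTower.algebraMap_apply A (A ⧸ p.1) (Kp A p), map_eq_zero_iff _
    (IsFractionRing.injective (A ⧸ p.1) (Kp A p)), Ideal.Quotient.algebraMap_eq, Ideal.Quotient.eq_zero_iff_mem]

theorem eq_zero_of_forall_mem [IsReduced A] {x : A} (hx : ∀ p : Min A, x ∈ p.1) : x = 0 := by
  have h : x ∈ sInf (minimalPrimes A) := Ideal.mem_sInf.mpr fun {p} hp => hx ⟨p, hp⟩
  rw [minimalPrimes, Ideal.sInf_minimalPrimes] at h
  obtain ⟨n, hn⟩ := h
  exact eq_zero_of_pow_eq_zero ((Submodule.mem_bot A).mp hn)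

theorem mem_nonZeroDivisors_iff_forall_notMem [IsReduced A] [Finite (Min A)] {x : A} :
    x ∈ nonZeroDivisors A ↔ ∀ p : Min A, x ∉ p.1 := by
  classical
  refine ⟨fun hx p hp => ?_, fun hx => mem_nonZeroDivisors_iff_right.mpr fun z hz => ?_⟩
  · exact Set.disjoint_left.mp (Ideal.disjoint_nonZeroDivisors_of_mem_minimalPrimes p.2) hp hx
  · exact eq_zero_of_forall_mem A fun q => (q.2.1.1.mem_or_mem (hz ▸ q.1.zero_mem)).resolve_right (hx q)

theorem exists_separating [Finite (Min A)] (p : Min A) :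
    ∃ e : A, e ∉ p.1 ∧ ∀ q : Min A, q ≠ p → e ∈ q.1 := by
  classical
  have := Fintype.ofFinite (Min A)
  have h : ∀ q : Min A, ∃ y : A, y ∉ p.1 ∧ (q ≠ p → y ∈ q.1) := fun q => by
    by_cases hq : q = p
    · exact ⟨1, fun h => p.2.1.1.ne_top ((Ideal.eq_top_iff_one _).mpr h), fun h => absurd hq h⟩
    · obtain ⟨y, hy, hy'⟩ := SetLike.not_le_iff_exists.mp fun hle : q.1 ≤ p.1 =>
        hq (Subtype.ext (le_antisymm hle (p.2.2 q.2.1 hle)))
      exact ⟨y, hy', fun _ => hy⟩
  choose y hy hy' using h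
  exact ⟨∏ q, y q, fun hp => by
      obtain ⟨q, -, hq⟩ := p.2.1.1.prod_mem_iff.mp hp
      exact hy q hq,
    fun q hq => Ideal.prod_mem (I := q.1) (Finset.mem_univ q) (hy' q hq)⟩

variable [IsReduced A] [Finite (Min A)]

theorem isUnit_pi (x : nonZeroDivisors A) : IsUnit (algebraMap A (∀ p : Min A, Kp A p) x) :=
  Pi.isUnit_iff.mpr fun p => isUnit_iff_ne_zero.mpr fun h =>
    (mem_nonZeroDivisors_iff_forall_notMem A).mp x.2 p (algebraMap_Kp_eq_zero A |>.mp h)

/-- `Q(A) → ∏ Frac(A/p)` -/
noncomputable def toPi : FractionRing A →ₐ[A] (∀ p : Min A, Kp A p) :=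
  IsLocalization.liftAlgHom (M := nonZeroDivisors A) (f := Algebra.ofId A _) (isUnit_pi A)

theorem toPi_bijective : Function.Bijective (toPi A) := by
  classical
  refine ⟨?_, fun z => ?_⟩
  · refine (injective_iff_map_eq_zero _).mpr fun w hw => ?_
    obtain ⟨⟨x, s⟩, h⟩ := IsLocalization.surj (nonZeroDivisors A) w
    have h' := congrArg (toPi A) h
    rw [map_mul, hw, zero_mul, AlgHom.commutes] at h'
    have hx : x = 0 := eq_zero_of_forall_mem A fun p => (algebraMap_Kp_eq_zero A).mp (congrFun h'.symm p)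
    rw [hx, map_zero] at h
    exact (IsUnit.mul_left_eq_zero (IsLocalization.map_units (FractionRing A) s)).mp h
  · have := Fintype.ofFinite (Min A)
    have hz : ∀ p : Min A, ∃ x s : A, s ∉ p.1 ∧ z p * algebraMap A (Kp A p) s = algebraMap A (Kp A p) x := by
      intro p
      obtain ⟨⟨x, s⟩, h⟩ := IsLocalization.surj (nonZeroDivisors (A ⧸ p.1)) (z p)
      obtain ⟨x', rfl⟩ := Ideal.Quotient.mk_surjective x
      obtain ⟨s', hs'⟩ := Ideal.Quotient.mk_surjective (s : A ⧸ p.1)
      refine ⟨x', s', fun hmem => nonZeroDivisors.ne_zero s.2 ?_, ?_⟩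
      · rw [← hs']; exact Ideal.Quotient.eq_zero_iff_mem.mpr hmem
      · rw [IsScalarTower.algebraMap_apply A (A ⧸ p.1) (Kp A p), IsScalarTower.algebraMap_apply A (A ⧸ p.1) (Kp A p) x']
        show z p * algebraMap _ _ (Ideal.Quotient.mk p.1 s') = _
        rw [hs']
        exact h
    choose x s hs hxs using hz
    choose e he he' using exists_separating A
    have hsum : ∀ (w : Min A → A) (p : Min A),
        algebraMap A (Kp A p) (∑ q, w q * e q) = algebraMap A (Kp A p) (w p * e p) := fun w p => by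
      rw [map_sum, Finset.sum_eq_single p]
      · intro q _ hq
        exact (algebraMap_Kp_eq_zero A).mpr (Ideal.mul_mem_left _ _ (he' q p hq.symm))
      · simp
    have hd : ∑ q, s q * e q ∈ nonZeroDivisors A := by
      refine (mem_nonZeroDivisors_iff_forall_notMem A).mpr fun p hp => ?_
      have h := (algebraMap_Kp_eq_zero A).mpr hp
      rw [hsum, algebraMap_Kp_eq_zero] at h
      exact (p.2.1.1.mem_or_mem h).elim (hs p) (he p)
    refine ⟨IsLocalization.mk' (FractionRing A) (∑ q, x q * e q) ⟨_, hd⟩, funext fun p => ?_⟩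
    have h := congrArg (toPi A) (IsLocalization.mk'_spec (FractionRing A) (∑ q, x q * e q) ⟨_, hd⟩)
    rw [map_mul, AlgHom.commutes, AlgHom.commutes] at h
    have hp := congrFun h p
    rw [Pi.mul_apply, Pi.algebraMap_apply, Pi.algebraMap_apply, hsum, hsum] at hp
    have hne : algebraMap A (Kp A p) (s p * e p) ≠ 0 := fun h0 =>
      (p.2.1.1.mem_or_mem ((algebraMap_Kp_eq_zero A).mp h0)).elim (hs p) (he p)
    refine mul_right_cancel₀ hne ?_
    rw [hp, map_mul, map_mul, ← hxs p]
    ring

theorem isIntegral_pi {z : ∀ p : Min A, Kp A p} (h : ∀ p, IsIntegral A (z p)) : IsIntegral A z := by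
  classical
  have := Fintype.ofFinite (Min A)
  choose f hf hf0 using h
  refine ⟨∏ p, f p, Polynomial.monic_prod_of_monic _ _ fun p _ => hf p, funext fun p => ?_⟩
  show Pi.evalAlgHom A _ p (Polynomial.aeval z (∏ q, f q)) = 0
  rw [← Polynomial.aeval_algHom_apply]
  show Polynomial.aeval (z p) (∏ q, f q) = 0
  rw [map_prod]
  exact Finset.prod_eq_zero (Finset.mem_univ p) (hf0 p)

/-- `A' = ∏ (A/p)'` -/
noncomputable def closureToPi :
    integralClosure A (FractionRing A) →ₐ[A] (∀ p : Min A, integralClosure A (Kp A p)) :=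
  AlgHom.pi fun p => ((Pi.evalAlgHom A _ p).comp ((toPi A).comp (integralClosure A (FractionRing A)).val)).codRestrict
    (integralClosure A (Kp A p)) fun z => (z.2.map (toPi A)).map (Pi.evalAlgHom A _ p)

theorem closureToPi_bijective : Function.Bijective (closureToPi A) := by
  refine ⟨fun a b h => Subtype.ext ((toPi_bijective A).1 (funext fun p => congrArg Subtype.val (congrFun h p) :)), fun z => ?_⟩
  obtain ⟨w, hw⟩ := (toPi_bijective A).2 fun p => (z p : Kp A p)
  have hint : IsIntegral A w := by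
    rw [← isIntegral_algHom_iff (toPi A) (toPi_bijective A).1, hw]
    exact isIntegral_pi A fun p => (z p).2
  exact ⟨⟨w, hint⟩, funext fun p => Subtype.ext (congrFun hw p)⟩

theorem mem_closure_Kp_iff {p : Min A} (z : Kp A p) :
    z ∈ integralClosure A (Kp A p) ↔ z ∈ integralClosure (A ⧸ p.1) (Kp A p) :=
  ⟨fun h => h.tower_top, fun h => isIntegral_trans _ h⟩

theorem isIntegrallyClosed_closure (p : Min A) : IsIntegrallyClosed (integralClosure A (Kp A p)) := by
  let e : integralClosure A (Kp A p) ≃+* integralClosure (A ⧸ p.1) (Kp A p) :=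
    { toFun := fun z => ⟨z, (mem_closure_Kp_iff A _).mp z.2⟩
      invFun := fun z => ⟨z, (mem_closure_Kp_iff A _).mpr z.2⟩
      map_mul' := fun _ _ => rfl
      map_add' := fun _ _ => rfl }
  have : IsIntegrallyClosed (integralClosure (A ⧸ p.1) (Kp A p)) :=
    integralClosure.isIntegrallyClosedOfFiniteExtension (Kp A p)
  exact IsIntegrallyClosed.of_equiv e.symm

end Groth.Agent.NagataOne
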