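import Groth.Agent.NagataOne.Branch
import Groth.Prelude.Def_Brnch

/-!
Equality in `numGeomBranches ≤ δ + 1` over a separably closed residue field: wedges of DVRs.
-/

set_option autoImplicit false
set_option linter.style.haveILetI false

universe u

open IsLocalRing

namespace Groth.Agent.NagataOne

variable (A : Type u) [CommRing A] [IsLocalRing A] (S : Type u) [CommRing S] [Algebra A S] [Algebra.IsIntegral A S]

/-- Embeddings of residue fields are unique over a separably closed residue field. -/
theorem subsingleton_emb [IsSepClosed (ResidueField A)] (m : MaximalSpectrum S) :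
    Subsingleton {σ : S ⧸ m.asIdeal →+* AlgebraicClosure (ResidueField A) //
      σ.comp ((Ideal.Quotient.mk m.asIdeal).comp (algebraMap A S)) = Brnch.toClosure A} := by
  have := m.isMaximal
  letI : Field (S ⧸ m.asIdeal) := Ideal.Quotient.field m.asIdeal
  have hmax := eq_maximalIdeal (Ideal.isMaximal_comap_of_isIntegral_of_isMaximal (R := A) m.asIdeal)
  let j : ResidueField A →+* S ⧸ m.asIdeal := Ideal.Quotient.lift (maximalIdeal A)
    ((Ideal.Quotient.mk m.asIdeal).comp (algebraMap A S))
    fun a ha => Ideal.Quotient.eq_zero_iff_mem.mpr (by rw [← hmax] at ha; exact ha)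
  letI := j.toAlgebra
  haveI : IsScalarTower A (ResidueField A) (S ⧸ m.asIdeal) := IsScalarTower.of_algebraMap_eq fun _ => rfl
  haveI : Algebra.IsIntegral A (S ⧸ m.asIdeal) :=
    Algebra.IsIntegral.of_surjective (Ideal.Quotient.mkₐ A m.asIdeal) Ideal.Quotient.mk_surjective
  haveI : Algebra.IsAlgebraic (ResidueField A) (S ⧸ m.asIdeal) :=
    haveI : Algebra.IsIntegral (ResidueField A) (S ⧸ m.asIdeal) := Algebra.IsIntegral.tower_top A
    inferInstance
  refine ⟨fun σ τ => ?_⟩
  let f : ∀ _ : {σ : S ⧸ m.asIdeal →+* AlgebraicClosure (ResidueField A) //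
      σ.comp ((Ideal.Quotient.mk m.asIdeal).comp (algebraMap A S)) = Brnch.toClosure A},
      (S ⧸ m.asIdeal →ₐ[ResidueField A] AlgebraicClosure (ResidueField A)) := fun σ =>
    { toRingHom := σ.1
      commutes' := fun c => by
        obtain ⟨a, rfl⟩ := residue_surjective c
        exact DFunLike.congr_fun σ.2 a }
  exact Subtype.ext (RingHom.ext fun z => DFunLike.congr_fun (Subsingleton.elim (f σ) (f τ)) z)

theorem mem_range_of_length_le {M C : Type u} [AddCommGroup M] [Module A M] [AddCommGroup C] [Module A C]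
    (l : A →ₗ[A] M) (φ : M →ₗ[A] C) (hφ : Function.Surjective φ)
    (hlt : Module.length A (M ⧸ LinearMap.range l) < ⊤)
    (hrange : Module.length A (LinearMap.range (φ.comp l)) ≤ 1)
    (h : Module.length A (M ⧸ LinearMap.range l) + 1 ≤ Module.length A C)
    (z : M) (hz : φ z ∈ LinearMap.range (φ.comp l)) : z ∈ LinearMap.range l := by
  let q : (M ⧸ LinearMap.range l) →ₗ[A] C ⧸ LinearMap.range (φ.comp l) :=
    Submodule.mapQ _ _ φ (by rintro _ ⟨a, rfl⟩; exact ⟨a, rfl⟩)
  have hq : Function.Surjective q := fun w => by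
    obtain ⟨w, rfl⟩ := Submodule.mkQ_surjective _ w
    obtain ⟨s, rfl⟩ := hφ w
    exact ⟨Submodule.Quotient.mk s, rfl⟩
  have e1 := Module.length_eq_add_of_exact (LinearMap.range (φ.comp l)).subtype (LinearMap.range (φ.comp l)).mkQ
    (Submodule.subtype_injective _) (Submodule.mkQ_surjective _) (LinearMap.exact_subtype_mkQ _)
  have e2 := Module.length_eq_add_of_exact (LinearMap.ker q).subtype q
    (Submodule.subtype_injective _) hq (LinearMap.exact_subtype_ker_map q)
  have hk0 : Module.length A (LinearMap.ker q) = 0 := by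
    rw [e2, e1] at h
    rw [e2] at hlt
    obtain ⟨a1, ha1⟩ := ENat.ne_top_iff_exists.mp ((le_self_add).trans_lt hlt).ne
    obtain ⟨a2, ha2⟩ := ENat.ne_top_iff_exists.mp ((le_add_self).trans_lt hlt).ne
    obtain ⟨a3, ha3⟩ := ENat.ne_top_iff_exists.mp (hrange.trans_lt (ENat.coe_lt_top 1)).ne
    rw [← ha1, ← ha2, ← ha3] at h
    rw [← ha1]
    rw [← ha3] at hrange
    norm_cast at h hrange ⊢
    omega
  haveI := Module.length_eq_zero_iff.mp hk0
  have hmem : Submodule.Quotient.mk (p := LinearMap.range l) z ∈ LinearMap.ker q := by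
    rw [LinearMap.mem_ker]
    exact (Submodule.Quotient.mk_eq_zero _).mpr hz
  exact (Submodule.Quotient.mk_eq_zero _).mp
    (congrArg Subtype.val (Subsingleton.elim (⟨_, hmem⟩ : LinearMap.ker q) 0))

variable {S} in
theorem length_range_le_one {C : Type u} [AddCommGroup C] [Module A C] (ψ : A →ₗ[A] C)
    (hker : maximalIdeal A ≤ LinearMap.ker ψ) : Module.length A (LinearMap.range ψ) ≤ 1 := by
  have : Function.Surjective (Submodule.liftQ (maximalIdeal A) ψ.rangeRestrict
      (by rw [LinearMap.ker_rangeRestrict]; exact hker)) := fun z => by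
    obtain ⟨_, x, rfl⟩ := z
    exact ⟨Submodule.Quotient.mk x, rfl⟩
  refine (Module.length_le_of_surjective _ this).trans ?_
  have : IsSimpleModule A (A ⧸ maximalIdeal A) :=
    isSimpleModule_iff_isCoatom.mpr (maximalIdeal.isMaximal A).out
  rw [Module.length_eq_one]

theorem length_residue_eq_one [Fintype (MaximalSpectrum S)]
    (h : Module.length A (S ⧸ LinearMap.range (Algebra.linearMap A S)) + 1 ≤ Fintype.card (MaximalSpectrum S))
    (m : MaximalSpectrum S) : Module.length A (S ⧸ m.asIdeal) = 1 := by
  classical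
  have h1le : ∀ m : MaximalSpectrum S, 1 ≤ Module.length A (S ⧸ m.asIdeal) := fun m => by
    have : Nontrivial (S ⧸ m.asIdeal) := Ideal.Quotient.nontrivial_iff.mpr m.isMaximal.ne_top
    exact Order.one_le_iff_pos.mpr Module.length_pos
  have hsum : ∑ m : MaximalSpectrum S, Module.length A (S ⧸ m.asIdeal) ≤
      Module.length A (S ⧸ LinearMap.range (Algebra.linearMap A S)) + 1 := sum_length_le A S Finset.univ
  refine le_antisymm ?_ (h1le m)
  rw [← Finset.add_sum_erase _ _ (Finset.mem_univ m)] at hsum
  have h2 : ((Finset.univ.erase m).card : ℕ∞) ≤ ∑ x ∈ Finset.univ.erase m, Module.length A (S ⧸ x.asIdeal) := by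
    rw [Finset.card_eq_sum_ones, Nat.cast_sum, Nat.cast_one]
    exact Finset.sum_le_sum fun x _ => h1le x
  have h3 := ((add_le_add le_rfl h2).trans hsum).trans h
  rw [Finset.card_erase_of_mem (Finset.mem_univ m), Finset.card_univ] at h3
  obtain ⟨n, hn⟩ := ENat.ne_top_iff_exists.mp (fun e : Module.length A (S ⧸ m.asIdeal) = ⊤ => by
    rw [e, top_add] at h3
    exact ENat.natCast_ne_top _ (top_le_iff.mp h3))
  rw [← hn] at h3 ⊢
  have hpos : 0 < Fintype.card (MaximalSpectrum S) := Fintype.card_pos_iff.mpr ⟨m⟩
  norm_cast at h3 ⊢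
  omega

/-- If `length (S/A) + 1` is at most the number of maximal ideals then the residue fields are trivial and
`A` contains every element of `S` congruent to an element of `A` modulo all maximal ideals. -/
theorem wedge_of_length_le [Finite (MaximalSpectrum S)]
    (hlt : Module.length A (S ⧸ LinearMap.range (Algebra.linearMap A S)) < ⊤)
    (h : Module.length A (S ⧸ LinearMap.range (Algebra.linearMap A S)) + 1 ≤ ENat.card (MaximalSpectrum S)) :
    (∀ m : MaximalSpectrum S, Function.Surjective ((Ideal.Quotient.mk m.asIdeal).comp (algebraMap A S))) ∧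
    ∀ z : S, (∃ a : A, ∀ m : MaximalSpectrum S, z - algebraMap A S a ∈ m.asIdeal) →
      z ∈ (algebraMap A S).range := by
  classical
  haveI := Fintype.ofFinite (MaximalSpectrum S)
  rw [ENat.card_eq_coe_fintype_card] at h
  have heach := length_residue_eq_one A S h
  refine ⟨fun m => ?_, fun z ⟨a, ha⟩ => ?_⟩
  · haveI := Module.length_eq_one_iff.mp (heach m)
    intro y
    obtain ⟨a, ha⟩ := (IsSimpleModule.toSpanSingleton_surjective A
      (m := (1 : S ⧸ m.asIdeal)) (by
        have : Nontrivial (S ⧸ m.asIdeal) := Ideal.Quotient.nontrivial_iff.mpr m.isMaximal.ne_top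
        exact one_ne_zero)) y
    exact ⟨a, by rw [← ha, LinearMap.toSpanSingleton_apply, Algebra.smul_def, mul_one]; rfl⟩
  · let φ : S →ₗ[A] ((m : MaximalSpectrum S) → S ⧸ m.asIdeal) :=
      LinearMap.pi fun m => (Ideal.Quotient.mkₐ A m.asIdeal).toLinearMap
    have hφ : Function.Surjective φ := by
      have hpair : Pairwise fun i j : MaximalSpectrum S => IsCoprime i.asIdeal j.asIdeal := fun i j hij =>
        Ideal.isCoprime_iff_sup_eq.mpr (i.isMaximal.coprime_of_ne j.isMaximal fun h => hij (MaximalSpectrum.ext h))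
      exact fun w => (Ideal.pi_quotient_surjective hpair w).imp fun r hr => funext hr
    have hker : maximalIdeal A ≤ LinearMap.ker (φ.comp (Algebra.linearMap A S)) := fun x hx => funext fun m => by
      have hmax : (m.asIdeal.comap (algebraMap A S)).IsMaximal := by
        have := m.isMaximal
        exact Ideal.isMaximal_comap_of_isIntegral_of_isMaximal m.asIdeal
      rw [← eq_maximalIdeal hmax] at hx
      exact Ideal.Quotient.eq_zero_iff_mem.mpr hx
    have hC : Module.length A ((m : MaximalSpectrum S) → S ⧸ m.asIdeal) = (Fintype.card (MaximalSpectrum S) : ℕ∞) := by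
      rw [Module.length_pi_of_fintype]
      simp [heach]
    have hz : φ (z - algebraMap A S a) = 0 := funext fun m => Ideal.Quotient.eq_zero_iff_mem.mpr (ha m)
    obtain ⟨b, hb⟩ := mem_range_of_length_le A (Algebra.linearMap A S) φ hφ hlt (length_range_le_one A _ hker)
      (hC.symm ▸ h) (z - algebraMap A S a) (by rw [hz]; exact zero_mem _)
    exact ⟨b + a, by
      change algebraMap A S b = _ at hb
      rw [map_add, hb, sub_add_cancel]⟩

omit [Algebra.IsIntegral A S]

/-- The geometric branches of a separably closed local ring are the maximal ideals of the normalisation. -/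
theorem numGeomBranches_le_card [IsReduced A] [IsNoetherianRing A] [IsSepClosed (ResidueField A)] :
    Brnch.numGeomBranches A ≤ ENat.card (MaximalSpectrum (integralClosure A (FractionRing A))) := by
  classical
  have hnil : nilradical A = ⊥ := nilradical_eq_bot_iff.mpr inferInstance
  let e : A ≃+* CAlg2.red A :=
    ((RingEquiv.quotientBot A).symm).trans (Ideal.quotEquivOfEq hnil.symm)
  let E : FractionRing A ≃+* FractionRing (CAlg2.red A) := IsFractionRing.ringEquivOfRingEquiv e
  have hE : ∀ a, E (algebraMap A _ a) = algebraMap (CAlg2.red A) _ (e a) :=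
    fun a => IsFractionRing.ringEquivOfRingEquiv_algebraMap e a
  have hmem : ∀ x, IsIntegral (CAlg2.red A) (E x) ↔ IsIntegral A x := fun x => by
    refine ⟨fun h => ?_, fun h => ?_⟩
    · have := h.map_of_comp_eq e.symm.toRingHom E.symm.toRingHom (RingHom.ext fun r => by
        obtain ⟨a, rfl⟩ := e.surjective r
        show algebraMap A _ (e.symm (e a)) = E.symm (algebraMap _ _ (e a))
        rw [← hE, RingEquiv.symm_apply_apply, RingEquiv.symm_apply_apply])
      simpa using this
    · exact h.map_of_comp_eq e.toRingHom E.toRingHom (RingHom.ext fun a => (hE a).symm)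
  letI : Algebra A (CAlg2.normRed A) :=
    ((algebraMap (CAlg2.red A) (CAlg2.normRed A)).comp (Ideal.Quotient.mk (nilradical A))).toAlgebra
  let Ψ : integralClosure A (FractionRing A) ≃ₐ[A] CAlg2.normRed A :=
    { toFun := fun z => ⟨E z, (hmem _).mpr z.2⟩
      invFun := fun z => ⟨E.symm z, (hmem _).mp (by rw [RingEquiv.apply_symm_apply]; exact z.2)⟩
      left_inv := fun z => Subtype.ext (E.symm_apply_apply _)
      right_inv := fun z => Subtype.ext (E.apply_symm_apply _)
      map_mul' := fun a b => Subtype.ext (map_mul E _ _)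
      map_add' := fun a b => Subtype.ext (map_add E _ _)
      commutes' := fun a => Subtype.ext (hE a) }
  haveI : Algebra.IsIntegral A (integralClosure A (FractionRing A)) :=
    ⟨fun z => isIntegral_algHom_iff (integralClosure A (FractionRing A)).val Subtype.coe_injective |>.mp z.2⟩
  haveI : Algebra.IsIntegral A (CAlg2.normRed A) :=
    Algebra.IsIntegral.of_surjective Ψ.toAlgHom Ψ.surjective
  rw [Brnch.numGeomBranches, if_pos (minimalPrimes.finite_of_isNoetherianRing A)]
  let F : (Σ m' : MaximalSpectrum (CAlg2.normRed A), Brnch.Emb A m') →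
      MaximalSpectrum (integralClosure A (FractionRing A)) := fun p =>
    ⟨p.1.asIdeal.comap Ψ.toRingEquiv.toRingHom,
      haveI := p.1.isMaximal
      Ideal.comap_isMaximal_of_surjective _ Ψ.surjective⟩
  refine ENat.card_le_card_of_injective (f := F) fun p q hpq => ?_
  obtain ⟨m, σ⟩ := p
  obtain ⟨m', σ'⟩ := q
  obtain rfl : m = m' := MaximalSpectrum.ext
    (Ideal.comap_injective_of_surjective _ Ψ.surjective (congrArg MaximalSpectrum.asIdeal hpq))
  haveI := subsingleton_emb A (CAlg2.normRed A) m
  exact Sigma.ext rfl (heq_of_eq (Subsingleton.elim (α := {σ : CAlg2.normRed A ⧸ m.asIdeal →+*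
    AlgebraicClosure (ResidueField A) //
      σ.comp ((Ideal.Quotient.mk m.asIdeal).comp (algebraMap A _)) = Brnch.toClosure A}) σ σ'))

end Groth.Agent.NagataOne
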